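import Groth.Agent.Stk19.AlgSt.LocQ
import Groth.Agent.Stk19.RelStack2

/-! Points of algebraic stacks for an arbitrary topology, and transfer of closedness of maps on points. -/

set_option autoImplicit false
set_option backward.isDefEq.respectTransparency false
set_option backward.isDefEq.respectTransparency.types false

universe u

open CategoryTheory CategoryTheory.Limits AlgebraicGeometry Opposite FibCat Groth.Agent.Desc19

namespace Groth.Agent.Stk19b.UCDvr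

open Groth.Agent.Stk19

variable {S : Scheme.{u}} {𝒳 𝒴 𝒵 𝒲 𝒲' : AlgSt.Cat S} {K : Precoverage Scheme.{u}}

theorem etale_le_fppf : QuotSh.J Scheme.etalePrecoverage S ≤ QuotSh.J Scheme.fppfPrecoverage S :=
  fun _ _ hR => (Precoverage.toGrothendieck_mono
    (Scheme.precoverage_mono (fun _ _ f (hf : Etale f) => ⟨inferInstance, inferInstance⟩))) _ hR

theorem isAlgStack_overCat_et (U : Over S) : AlgSt.IsAlgStack Scheme.etalePrecoverage (overCat U) := by
  have h := (isDM_of_repByAlgSp (repByAlgSp_overCat U)).1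
  exact ⟨⟨h.isStack.1, fun U R hR => h.isStack.2 R (etale_le_fppf U hR)⟩, h.diag, h.atlas⟩

/-- Every chart from a scheme is continuous on points. -/
theorem continuous_ofChart' (h : AlgSt.IsAlgStack K 𝒳) {U : Over S} (x : overCat U ⥤ᵇ 𝒳) :
    Continuous (AlgSt.Points.ofChart x) := by
  obtain ⟨V, y, hy, hys⟩ := h.atlas
  obtain ⟨W, p, q, ⟨α⟩, hq, -, hsurj⟩ := exists_chart_fp h.isStack.1 x (repByAlgSp1_of_with hy)
  refine continuous_def.2 fun A hA => ?_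
  have := hq AlgSpLib.etLocal_smooth hy
  have e : AlgSt.Points.ofChart x ⁻¹' A = q.left '' (p.left ⁻¹' (AlgSt.Points.ofChart y ⁻¹' A)) := by
    ext s
    constructor
    · intro hs
      obtain ⟨t, ht⟩ := ofChart_surjective h.isStack.1 hys (AlgSt.Points.ofChart x s)
      obtain ⟨w, rfl, rfl⟩ := hsurj t s ht
      exact ⟨w, show AlgSt.Points.ofChart y (p.left w) ∈ A from ht ▸ hs, rfl⟩
    · rintro ⟨w, hw, rfl⟩
      show AlgSt.Points.ofChart x (q.left w) ∈ A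
      rw [← ofChart_eq_of_iso α]
      exact hw
  rw [e]
  exact q.left.isOpenMap _ ((AlgSt.Points.isOpen_iff.1 hA V y hy).preimage p.left.continuous)

theorem continuous_map' (h𝒴 : AlgSt.IsAlgStack K 𝒴) (f : 𝒳 ⥤ᵇ 𝒴) : Continuous (AlgSt.Points.map f) :=
  continuous_def.2 fun _ hA => AlgSt.Points.isOpen_iff.2 fun _ x _ =>
    hA.preimage (continuous_ofChart' h𝒴 (BasedFunctor.comp x f))

theorem map_bijective {e : 𝒳 ⥤ᵇ 𝒴} (he : IsEquivOver e) : Function.Bijective (AlgSt.Points.map e) :=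
  points_bijective_of_equiv he

/-- Closedness on points transfers along an equivalence of the sources. -/
theorem closed_of_equiv {𝒜 ℬ : AlgSt.Cat S} (h𝒜 : AlgSt.IsAlgStack K 𝒜) (hℬ : AlgSt.IsAlgStack K ℬ)
    {E : 𝒜 ⥤ᵇ ℬ} (hE : IsEquivOver E) {p : ℬ ⥤ᵇ 𝒵} {q : 𝒜 ⥤ᵇ 𝒵} (i : BasedFunctor.comp E p ≅ q) :
    IsClosedMap (AlgSt.Points.map q) ↔ IsClosedMap (AlgSt.Points.map p) := by
  obtain ⟨G, hG, ⟨a⟩, -⟩ := exists_inverse hE
  have e : ∀ x, AlgSt.Points.map q x = AlgSt.Points.map p (AlgSt.Points.map E x) := fun x => by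
    rw [← points_map_comp, points_map_congr i]
  constructor
  · intro h C hC
    have : AlgSt.Points.map p '' C = AlgSt.Points.map q '' (AlgSt.Points.map E ⁻¹' C) := by
      ext z
      constructor
      · rintro ⟨x, hx, rfl⟩
        obtain ⟨y, rfl⟩ := (map_bijective hE).2 x
        exact ⟨y, hx, e y⟩
      · rintro ⟨y, hy, rfl⟩
        exact ⟨_, hy, (e y).symm⟩
    rw [this]
    exact h _ (hC.preimage (continuous_map' hℬ E))
  · intro h C hC
    have hG' : ∀ x, AlgSt.Points.map G (AlgSt.Points.map E x) = x := fun x => by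
      rw [← points_map_comp, points_map_congr a, points_map_id]
    have h2 : AlgSt.Points.map E '' C = AlgSt.Points.map G ⁻¹' C := by
      ext z
      constructor
      · rintro ⟨x, hx, rfl⟩
        show _ ∈ C
        rw [hG']
        exact hx
      · intro hz
        obtain ⟨x, rfl⟩ := (map_bijective hE).2 z
        rw [Set.mem_preimage, hG'] at hz
        exact ⟨x, hz, rfl⟩
    rw [show AlgSt.Points.map q '' C = AlgSt.Points.map p '' (AlgSt.Points.map E '' C) by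
      rw [Set.image_image]; exact Set.image_congr fun x _ => e x, h2]
    exact h _ (hC.preimage (continuous_map' h𝒜 G))

/-- The preimage of an image along a base change. -/
theorem preimage_image_fst (h𝒲 : IsFibGrpd 𝒲.p) (h𝒵 : IsFibGrpd 𝒵.p) {𝒩 : AlgSt.Cat S}
    (h𝒩 : IsFibGrpd 𝒩.p) (c : 𝒲 ⥤ᵇ 𝒵) (q : 𝒩 ⥤ᵇ 𝒵) (C : Set (AlgSt.Points 𝒩)) :
    AlgSt.Points.map c ⁻¹' (AlgSt.Points.map q '' C) =
      AlgSt.Points.map (fpFst c q) '' (AlgSt.Points.map (fpSnd c q) ⁻¹' C) := by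
  ext w
  constructor
  · rintro ⟨x, hx, hxw⟩
    obtain ⟨z, hz₁, hz₂⟩ := exists_points_fp h𝒩 h𝒵 h𝒲 q c w x hxw.symm
    exact ⟨z, by rw [Set.mem_preimage, hz₂]; exact hx, hz₁⟩
  · rintro ⟨z, hz, rfl⟩
    refine ⟨_, hz, ?_⟩
    rw [← points_map_comp, ← points_map_comp]
    exact (points_map_congr (fpIso c q) z).symm

/-- `LocQ` gives the property on every smooth chart of the target, for any topology. -/
theorem good_of_locQ' {P : MorphismProperty (AlgSp.Sp S)} (hP : AlgSp.IsSmoothLocalST P)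
    (h𝒳 : IsFibGrpd 𝒳.p) (h𝒴 : IsFibGrpd 𝒴.p) {f : 𝒳 ⥤ᵇ 𝒴}
    (h : AlgSt.LocQ P f) {V : Over S} {y : overCat V ⥤ᵇ 𝒴}
    (hy : AlgSt.RepByAlgSpWith (AlgSp.LocP @Smooth) y) : Good P f y := by
  obtain ⟨U₀, V₀, x₀, y₀, h₀, α, hx₀, hxs₀, hy₀, hh₀⟩ := h
  obtain ⟨G, eG, heG, hg⟩ := hy₀ V y
  obtain ⟨G', eG', heG', hg'⟩ := hy V₀ y₀
  have hg₀ := repWith_any (respSrc_locP AlgSpLib.etLocal_smooth) heG' hg' (BasedFunctor.comp eG (fpSwap y y₀))
    (isEquivOver_comp heG (isEquivOver_fpSwap y y₀))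
  set g := AlgSt.spMapOfOver (BasedFunctor.comp eG (fpFst y y₀))
  obtain ⟨g₀, hg₀e⟩ : ∃ g₀, g₀ = AlgSt.spMapOfOver (BasedFunctor.comp eG (fpSnd y y₀)) := ⟨_, rfl⟩
  have hg₀' : AlgSp.LocP @Smooth g₀ := by rw [hg₀e]; exact hg₀
  obtain ⟨is⟩ := spMapOfOver_iso (BasedFunctor.comp eG (fpSnd y y₀))
  rw [← hg₀e] at is
  have sq := IsPullback.of_hasPullback g₀ ((AlgSp.yon S).map h₀)
  have hQ : AlgSp.IsAlgSpace (pullback g₀ ((AlgSp.yon S).map h₀)) :=
    isAlgSpace_pullback_yon (Z := ⟨_, AlgSp.IsAlgSpace.yon_obj V₀⟩) g₀ ((AlgSp.yon S).map h₀)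
  have hPQ : P (pullback.fst g₀ ((AlgSp.yon S).map h₀) ≫ g) :=
    smST_postcomp hP hQ G.property (AlgSp.IsAlgSpace.yon_obj V) g
      (hP.baseChange (AlgSp.IsAlgSpace.yon_obj U₀) (AlgSp.IsAlgSpace.yon_obj V₀) hQ G.property _ _ _ _ sq.flip hg₀' hh₀)
      hg
  obtain ⟨E, hE, hE₁, -⟩ := exists_fp_equiv sq
  obtain ⟨hfull, hfaith, -⟩ := EqvData.of_isEquivOver (isEquivOver_toOverCat V₀)
  let E₁ : fp (AlgSt.ofSpMap g₀) (AlgSt.ofSpMap ((AlgSp.yon S).map h₀)) ⥤ᵇ fp (fpSnd y y₀) (AlgSt.overMap h₀) :=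
    fpMap eG (AlgSt.toOverCat U₀) (AlgSt.toOverCat V₀) is.symm (Iso.refl _)
  have hE₁' : IsEquivOver E₁ := isEquivOver_fpMap _ _ _ _ _ heG (isEquivOver_toOverCat U₀)
  obtain ⟨E₂, hE₂, hE₂f, -⟩ := exists_congr (F := y) (G := BasedFunctor.comp (AlgSt.overMap h₀) y₀) (Iso.refl _) α.symm
  obtain ⟨G₁, hG₁, -, ⟨c⟩⟩ := exists_inverse (isEquivOver_fpCompFactor y x₀ f)
  let C := fpCompFactor y (AlgSt.overMap h₀) y₀
  let T := BasedFunctor.comp E (BasedFunctor.comp E₁ (BasedFunctor.comp C (BasedFunctor.comp E₂ G₁)))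
  have hT : IsEquivOver T := isEquivOver_comp hE (isEquivOver_comp hE₁' (isEquivOver_comp
    (isEquivOver_fpCompFactor y (AlgSt.overMap h₀) y₀) (isEquivOver_comp hE₂ hG₁)))
  let eQ := BasedFunctor.comp T (fpFst (fpSnd y f) x₀)
  obtain ⟨W, w, hwe, hws⟩ := hQ.atlas
  obtain ⟨k, hk⟩ := (AlgSp.yon S).map_surjective (w ≫ pullback.fst g₀ ((AlgSp.yon S).map h₀) ≫ g)
  obtain ⟨ig⟩ := spMapOfOver_iso (BasedFunctor.comp eG (fpFst y y₀))
  have hN : IsFibGrpd (fp y f).p := fibGrpd_fp (isFibGrpd_overCat V) h𝒳 h𝒴 y f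
  have hQf := setoid_ofSp (pullback g₀ ((AlgSp.yon S).map h₀))
  let c₀ := BasedFunctor.comp (AlgSt.ofOverCat W) (AlgSt.ofSpMap w)
  have he : AlgSt.RepByAlgSpWith (AlgSp.LocP @Smooth) (BasedFunctor.comp c₀ eQ) := with_comp_locP AlgSpLib.etLocal_smooth hQf.1
    (with_sp_chart AlgSpLib.etLocal_smooth hQ w hwe) (with_equiv_comp hT (repByAlgSpWith_fpFst _ hx₀))
  have heQs : AlgSt.IsSurjective eQ :=
    isSurjective_of_with hN (with_equiv_comp hT (repByAlgSpWith_fpFst _ hxs₀))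
  refine pcov_of_one hP hN he (fun p => ?_) (k₀ := k) ?_ ?_
  · obtain ⟨z, rfl⟩ := heQs p
    obtain ⟨z', rfl⟩ := stPt_bijective.2 z
    obtain ⟨t, rfl⟩ := AlgSpLib.surjective_ofPt w hws z'
    exact ⟨t, (map_ofChart c₀ eQ t).symm⟩
  · let T₀ := BasedFunctor.comp c₀ (BasedFunctor.comp E (BasedFunctor.comp E₁ (BasedFunctor.comp C E₂)))
    refine (Stk.restr T₀ _).mapIso ((postB _ (fpFst y (BasedFunctor.comp x₀ f))).mapIso c) ≪≫ eqToIso ?_ ≪≫
      (Stk.restr (BasedFunctor.comp c₀ (AlgSt.ofSpMap (pullback.fst g₀ ((AlgSp.yon S).map h₀)))) _).mapIso ig ≪≫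
      eqToIso ?_
    · show BasedFunctor.comp c₀ (BasedFunctor.comp E (BasedFunctor.comp E₁ (BasedFunctor.comp C
        (BasedFunctor.comp E₂ (fpFst y (BasedFunctor.comp x₀ f)))))) = _
      rw [hE₂f]
      show BasedFunctor.comp c₀ (BasedFunctor.comp (BasedFunctor.comp E (fpFst _ _))
        (BasedFunctor.comp eG (fpFst y y₀))) = _
      rw [hE₁]
      rfl
    · show BasedFunctor.comp (BasedFunctor.comp (BasedFunctor.comp (AlgSt.ofOverCat W) (AlgSt.ofSpMap w))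
        (AlgSt.ofSpMap (pullback.fst g₀ ((AlgSp.yon S).map h₀))))
        (BasedFunctor.comp (AlgSt.ofSpMap g) (AlgSt.toOverCat V)) = _
      rw [show AlgSt.overMap k = BasedFunctor.comp (BasedFunctor.comp (AlgSt.ofOverCat W)
        (AlgSt.ofSpMap ((AlgSp.yon S).map k))) (AlgSt.toOverCat V) from rfl, hk]
      rfl
  · rw [hk]
    exact hP.precomp (AlgSp.IsAlgSpace.yon_obj W) hQ (AlgSp.IsAlgSpace.yon_obj V) _ _
      (locP_atlas AlgSpLib.etLocal_smooth hwe) hPQ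

end Groth.Agent.Stk19b.UCDvr
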