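import Groth.Agent.Stk19b.UCDvr.Affine
import Groth.Agent.Stk19.AlgSt.Qc
import Groth.Agent.Stk19.AlgSt.LocQThm
import Groth.Agent.ValExtLib.Scheme

/-! The valuative criterion with discrete valuation rings for universal closedness of morphisms of algebraic stacks. -/

set_option autoImplicit false
set_option linter.style.haveILetI false
set_option backward.isDefEq.respectTransparency false
set_option backward.isDefEq.respectTransparency.types false

universe u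

open CategoryTheory CategoryTheory.Limits AlgebraicGeometry Opposite FibCat Topology TensorProduct IsLocalRing
open Groth.Agent.Desc19

noncomputable section

namespace Groth.Agent.Stk19b.UCDvr

open Groth.Agent.Stk19

variable {S : Scheme.{u}} {𝒳 𝒴 : AlgSt.Cat S}

local notation "AE" => AlgSt.IsAlgStack Scheme.etalePrecoverage

theorem isAlgStack_fp_test (h𝒳 : AE 𝒳) (h𝒴 : AE 𝒴) {U : Over S} (y : overCat U ⥤ᵇ 𝒴) (f : 𝒳 ⥤ᵇ 𝒴) :
    AE (fp y f) :=
  isAlgStack_fp h𝒴.isStack h𝒴.diag (isAlgStack_overCat_et U) h𝒳 y f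

/-- Universal closedness is tested on schemes. -/
theorem isUnivClosed_of_tests (h𝒳 : AE 𝒳) (h𝒴 : AE 𝒴) (f : 𝒳 ⥤ᵇ 𝒴)
    (h : ∀ (U : Over S) (y : overCat U ⥤ᵇ 𝒴), IsClosedMap (AlgSt.Points.map (fpFst y f))) :
    AlgSt.IsUnivClosed Scheme.etalePrecoverage f := fun 𝒵 hZ g C hC => by
  have hgf := isAlgStack_fp h𝒴.isStack h𝒴.diag hZ h𝒳 g f
  rw [← isOpen_compl_iff]
  refine AlgSt.Points.isOpen_iff.2 fun U z _ => ?_
  have hN := isAlgStack_fp hZ.isStack hZ.diag (isAlgStack_overCat_et U) hgf z (fpFst g f)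
  have hc := ((closed_of_equiv hN (isAlgStack_fp_test h𝒳 h𝒴 (BasedFunctor.comp z g) f)
    (isEquivOver_fpPaste z g f) (eqToIso (fpPaste_fst z g f))).2 (h U _)) _ (hC.preimage (continuous_map' hgf (fpSnd z (fpFst g f))))
  rw [← preimage_image_fst (isFibGrpd_overCat U) hZ.isStack.1 hgf.isStack.1] at hc
  rw [Set.preimage_compl, show AlgSt.Points.ofChart z =
    AlgSt.Points.map z ∘ AlgSt.Points.ofChart (BasedFunctor.id _) from funext (ofChart_eq_map z), Set.preimage_comp]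
  exact (hc.preimage (continuous_ofChart' (isAlgStack_overCat_et U) _)).isOpen_compl

/-- Closedness over a scheme is local for open maps to it. -/
theorem closed_of_cover (h𝒳 : AE 𝒳) (h𝒴 : AE 𝒴) (f : 𝒳 ⥤ᵇ 𝒴) {U : Over S} (y : overCat U ⥤ᵇ 𝒴)
    (h : ∀ t : ↥U.left, ∃ (O : Over S) (p : O ⟶ U) (y' : overCat O ⥤ᵇ 𝒴),
      Nonempty (BasedFunctor.comp (AlgSt.overMap p) y ≅ y') ∧ IsOpenMap p.left ∧ t ∈ Set.range p.left ∧
        IsClosedMap (AlgSt.Points.map (fpFst y' f))) :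
    IsClosedMap (AlgSt.Points.map (fpFst y f)) := fun C hC => by
  have hyf := isAlgStack_fp_test h𝒳 h𝒴 y f
  rw [← isOpen_compl_iff]
  refine AlgSt.Points.isOpen_iff.2 fun U' x _ => ?_
  obtain ⟨k, ⟨jk⟩⟩ := exists_overMap_iso x
  have hx : AlgSt.Points.ofChart x = AlgSt.Points.ofChart (BasedFunctor.id _) ∘ k.left :=
    funext fun w => (ofChart_congr jk w).trans (ofChart_overMap k (BasedFunctor.id _) w)
  rw [hx, Set.preimage_comp]
  refine IsOpen.preimage k.left.continuous (isOpen_iff_forall_mem_open.2 fun t ht => ?_)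
  obtain ⟨O, p, y', ⟨m⟩, hp, ⟨s, rfl⟩, hcl⟩ := h t
  obtain ⟨E₂, hE₂, hE₂f, -⟩ := exists_congr (F := BasedFunctor.comp (AlgSt.overMap p) y) (G := f) m (Iso.refl _)
  have hN := isAlgStack_fp (isAlgStack_overCat_et U).isStack (isAlgStack_overCat_et U).diag
    (isAlgStack_overCat_et O) hyf (AlgSt.overMap p) (fpFst y f)
  have hN' := isAlgStack_fp_test h𝒳 h𝒴 (BasedFunctor.comp (AlgSt.overMap p) y) f
  have h1 := (closed_of_equiv hN' (isAlgStack_fp_test h𝒳 h𝒴 y' f) hE₂ (eqToIso hE₂f)).2 hcl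
  have hc := ((closed_of_equiv hN hN' (isEquivOver_fpPaste _ y f) (eqToIso (fpPaste_fst _ y f))).2 h1) _
    (hC.preimage (continuous_map' hyf (fpSnd (AlgSt.overMap p) (fpFst y f))))
  rw [← preimage_image_fst (isFibGrpd_overCat O) (isFibGrpd_overCat U) hyf.isStack.1] at hc
  refine ⟨p.left '' (AlgSt.Points.ofChart (BasedFunctor.id (overCat O)) ⁻¹'
    (AlgSt.Points.map (AlgSt.overMap p) ⁻¹' (AlgSt.Points.map (fpFst y f) '' C))ᶜ), ?_,
    hp _ (hc.isOpen_compl.preimage (continuous_ofChart' (isAlgStack_overCat_et O) _)), ⟨s, ?_, rfl⟩⟩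
  · rintro _ ⟨s', hs', rfl⟩ hmem
    refine hs' ?_
    show AlgSt.Points.map (AlgSt.overMap p) (AlgSt.Points.ofChart (BasedFunctor.id _) s') ∈
      AlgSt.Points.map (fpFst y f) '' C
    rw [← ofChart_eq_map, show AlgSt.Points.ofChart (AlgSt.overMap p) s' = _ from
      ofChart_overMap p (BasedFunctor.id _) s']
    exact hmem
  · intro hmem
    refine ht ?_
    show AlgSt.Points.ofChart (BasedFunctor.id _) (p.left s) ∈ AlgSt.Points.map (fpFst y f) '' C
    rw [← show AlgSt.Points.ofChart (AlgSt.overMap p) s = _ from ofChart_overMap p (BasedFunctor.id _) s,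
      ofChart_eq_map]
    exact hmem

/-- The lifting hypothesis. -/
def DvrLiftSt (f : 𝒳 ⥤ᵇ 𝒴) : Prop :=
  ∀ (R : Type u) [CommRing R] [IsDomain R] [IsDiscreteValuationRing R]
    (sR : Spec (CommRingCat.of R) ⟶ S)
    (a : FibCat.overCat (Over.mk (Spec.map (CommRingCat.ofHom (algebraMap R (FractionRing R))) ≫ sR)) ⥤ᵇ 𝒳)
    (b : FibCat.overCat (Over.mk sR) ⥤ᵇ 𝒴)
    (α : BasedFunctor.comp a f ≅
      BasedFunctor.comp (AlgSt.overMap (Over.homMk (Spec.map (CommRingCat.ofHom (algebraMap R (FractionRing R)))) rfl :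
        Over.mk (Spec.map (CommRingCat.ofHom (algebraMap R (FractionRing R))) ≫ sR) ⟶ Over.mk sR)) b),
    ∃ (R' : Type u) (_ : CommRing R') (_ : IsDomain R') (_ : IsDiscreteValuationRing R') (φ : R →+* R')
      (_ : Function.Injective φ) (_ : IsLocalHom φ)
      (gψ : (Over.mk (Spec.map (CommRingCat.ofHom (algebraMap R' (FractionRing R'))) ≫
              Spec.map (CommRingCat.ofHom φ) ≫ sR) : Over S) ⟶
            Over.mk (Spec.map (CommRingCat.ofHom (algebraMap R (FractionRing R))) ≫ sR))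
      (c : FibCat.overCat (Over.mk (Spec.map (CommRingCat.ofHom φ) ≫ sR)) ⥤ᵇ FibCat.fp f b),
      gψ ≫ (Over.homMk (Spec.map (CommRingCat.ofHom (algebraMap R (FractionRing R)))) rfl :
          Over.mk (Spec.map (CommRingCat.ofHom (algebraMap R (FractionRing R))) ≫ sR) ⟶ Over.mk sR) =
        (Over.homMk (Spec.map (CommRingCat.ofHom (algebraMap R' (FractionRing R')))) rfl :
            Over.mk (Spec.map (CommRingCat.ofHom (algebraMap R' (FractionRing R'))) ≫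
              Spec.map (CommRingCat.ofHom φ) ≫ sR) ⟶ Over.mk (Spec.map (CommRingCat.ofHom φ) ≫ sR)) ≫
          (Over.homMk (Spec.map (CommRingCat.ofHom φ)) rfl :
            Over.mk (Spec.map (CommRingCat.ofHom φ) ≫ sR) ⟶ Over.mk sR) ∧
      Nonempty (BasedFunctor.comp c (FibCat.fpSnd f b) ≅
        AlgSt.overMap (Over.homMk (Spec.map (CommRingCat.ofHom φ)) rfl :
          Over.mk (Spec.map (CommRingCat.ofHom φ) ≫ sR) ⟶ Over.mk sR)) ∧
      Nonempty (BasedFunctor.comp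
          (AlgSt.overMap (Over.homMk (Spec.map (CommRingCat.ofHom (algebraMap R' (FractionRing R')))) rfl :
            Over.mk (Spec.map (CommRingCat.ofHom (algebraMap R' (FractionRing R'))) ≫
              Spec.map (CommRingCat.ofHom φ) ≫ sR) ⟶ Over.mk (Spec.map (CommRingCat.ofHom φ) ≫ sR))) c ≅
        BasedFunctor.comp (AlgSt.overMap gψ)
          (FibCat.fpLift a
            (AlgSt.overMap (Over.homMk (Spec.map (CommRingCat.ofHom (algebraMap R (FractionRing R)))) rfl :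
              Over.mk (Spec.map (CommRingCat.ofHom (algebraMap R (FractionRing R))) ≫ sR) ⟶ Over.mk sR)) α))

/-- A lift followed by a change of the second leg. -/
theorem nonempty_lift_comp_fpMap {𝒜 ℬ 𝒞 : AlgSt.Cat S} {f : 𝒳 ⥤ᵇ 𝒴} (h : 𝒜 ⥤ᵇ ℬ) (y : ℬ ⥤ᵇ 𝒴) (a : 𝒞 ⥤ᵇ 𝒳)
    (j : 𝒞 ⥤ᵇ 𝒜) (α : BasedFunctor.comp a f ≅ BasedFunctor.comp j (BasedFunctor.comp h y)) :
    Nonempty (BasedFunctor.comp (fpLift a j α) (fpMap (F' := f) (G' := y) (BasedFunctor.id 𝒳) h (BasedFunctor.id 𝒴)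
        (Iso.refl _) (Iso.refl _)) ≅ fpLift a (BasedFunctor.comp j h) α) :=
  ⟨Stk19.isoMk (F := BasedFunctor.comp (fpLift a j α) (fpMap (F' := f) (G' := y) (BasedFunctor.id 𝒳) h
      (BasedFunctor.id 𝒴) (Iso.refl _) (Iso.refl _))) (G := fpLift a (BasedFunctor.comp j h) α)
    (fun x => fpIsoMk (Iso.refl _) (Iso.refl _) (by
      show f.map (𝟙 (a.obj x)) ≫ (appIso α x).hom = _ ≫ y.map (𝟙 (h.obj (j.obj x)))
      rw [f.toFunctor.map_id, y.toFunctor.map_id, Category.id_comp, Category.comp_id]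
      show α.hom.toNatTrans.app x = 𝟙 (f.obj (a.obj x)) ≫ α.hom.toNatTrans.app x ≫ 𝟙 (y.obj (h.obj (j.obj x)))
      exact ((Category.id_comp _).trans (Category.comp_id _)).symm))
    (fun x => fpIsoMk_vert _ _ _ (IsHomLift.id rfl))
    (fun φ => fp_hom_ext ((Category.comp_id _).trans (Category.id_comp _).symm)
      ((Category.comp_id _).trans (Category.id_comp _).symm))⟩

variable {A : Type u} [CommRing A] {sA : Spec (CommRingCat.of A) ⟶ S}

theorem exists_lift_of_dvr (h𝒳 : AE 𝒳) (h𝒴 : AE 𝒴) {f : 𝒳 ⥤ᵇ 𝒴} (hval : DvrLiftSt f)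
    (y₁ : overCat (Over.mk sA) ⥤ᵇ 𝒴) {C : Type u} [CommRing C] [Algebra A C] [Algebra.FiniteType A C]
    (B : Type u) [CommRing B] [Algebra A B] [IsNoetherianRing B]
    (w : ↥(spo sA (C ⊗[A] B)).left) (c : overCat (spo sA (C ⊗[A] B)) ⥤ᵇ bc sA (fpFst y₁ f) B)
    (i : BasedFunctor.comp c (fpFst (AlgSt.overMap (strHom sA B)) (fpFst y₁ f)) ≅
      AlgSt.overMap (pr₂ (C := C) sA B))
    (t : ↥(spo sA B).left) (hsp : (pr₂ (C := C) sA B).left w ⤳ t) :
    ∃ z, AlgSt.Points.ofChart c w ⤳ z ∧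
      AlgSt.Points.map (fpFst (AlgSt.overMap (strHom sA B)) (fpFst y₁ f)) z =
        AlgSt.Points.ofChart (BasedFunctor.id _) t := by
  by_cases hne : t = (pr₂ (C := C) sA B).left w
  · exact ⟨_, specializes_rfl, by rw [hne]; exact map_ofChart_of_iso i w⟩
  haveI : IsLocallyNoetherian (spo sA B).left := inferInstanceAs (IsLocallyNoetherian (Spec (CommRingCat.of B)))
  haveI : Algebra.FiniteType B (B ⊗[A] C) := inferInstance
  haveI : LocallyOfFiniteType (pr₂ (C := C) sA B).left := by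
    refine (HasRingHomProperty.Spec_iff (P := @LocallyOfFiniteType)).2 ?_
    show ((Algebra.TensorProduct.includeRight : B →ₐ[A] C ⊗[A] B).toRingHom).FiniteType
    have e : ((Algebra.TensorProduct.includeRight : B →ₐ[A] C ⊗[A] B).toRingHom) =
        ((Algebra.TensorProduct.comm A B C).toAlgHom.toRingHom).comp (algebraMap B (B ⊗[A] C)) := by
      ext b
      simp
    rw [e]
    exact (RingHom.FiniteType.of_surjective _ (Algebra.TensorProduct.comm A B C).surjective).comp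
      (RingHom.finiteType_algebraMap.2 inferInstance)
  obtain ⟨V, hV, hVd, hVc, hVK⟩ :=
    Groth.Agent.ValExtLib.exists_dvr_valuationSubring (pr₂ (C := C) sA B).left w hsp hne
  haveI := hVd
  let κ : Type u := ↑((spo sA (C ⊗[A] B)).left.residueField w)
  let ι : FractionRing V ≃ₐ[V] κ := FractionRing.algEquiv V κ
  let sR : Spec (CommRingCat.of V) ⟶ S := hV ≫ (spo sA B).hom
  let hVo : Over.mk sR ⟶ spo sA B := Over.homMk hV rfl
  let jK : Over.mk (Spec.map (CommRingCat.ofHom (algebraMap V (FractionRing V))) ≫ sR) ⟶ Over.mk sR :=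
    Over.homMk (Spec.map (CommRingCat.ofHom (algebraMap V (FractionRing V)))) rfl
  let σ : Spec (CommRingCat.of (FractionRing V)) ⟶ (spo sA (C ⊗[A] B)).left :=
    Spec.map (CommRingCat.ofHom ι.symm.toAlgHom.toRingHom) ≫ (spo sA (C ⊗[A] B)).left.fromSpecResidueField w
  have hσ : σ ≫ (pr₂ (C := C) sA B).left = jK.left ≫ hV := by
    show (Spec.map _ ≫ _) ≫ _ = Spec.map _ ≫ hV
    rw [Category.assoc, ← hVK, ← Spec.map_comp_assoc]
    refine congrArg (fun r => Spec.map r ≫ hV) ?_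
    ext v
    exact ι.symm.commutes v
  let ptW : Over.mk (Spec.map (CommRingCat.ofHom (algebraMap V (FractionRing V))) ≫ sR) ⟶ spo sA (C ⊗[A] B) :=
    Over.homMk σ (by
      rw [← Over.w (pr₂ (C := C) sA B), reassoc_of% hσ]
      rfl)
  have hpt : ptW ≫ pr₂ (C := C) sA B = jK ≫ hVo := Over.OverMorphism.ext hσ
  let y' : overCat (spo sA B) ⥤ᵇ 𝒴 := BasedFunctor.comp (AlgSt.overMap (strHom sA B)) y₁
  obtain ⟨E, hE, hEf, -⟩ := exists_paste (AlgSt.overMap (strHom sA B)) y₁ f (c := y') (Iso.refl _)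
  let Eq' := BasedFunctor.comp E (fpSwap y' f)
  have hEq : BasedFunctor.comp Eq' (fpSnd f y') = fpFst (AlgSt.overMap (strHom sA B)) (fpFst y₁ f) := by
    rw [← hEf]
    show BasedFunctor.comp E (BasedFunctor.comp (fpSwap y' f) (fpSnd f y')) = _
    rw [show BasedFunctor.comp (fpSwap y' f) (fpSnd f y') = fpFst y' f from based_ext rfl]
  let c'' := BasedFunctor.comp c Eq'
  let l := BasedFunctor.comp (AlgSt.overMap ptW) c''
  obtain ⟨m₁⟩ := overMap_comp ptW (pr₂ (C := C) sA B)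
  obtain ⟨m₂⟩ := overMap_comp jK hVo
  let il : BasedFunctor.comp l (fpSnd f y') ≅ BasedFunctor.comp (AlgSt.overMap jK) (AlgSt.overMap hVo) :=
    (Stk.restr (AlgSt.overMap ptW) _).mapIso (eqToIso (congrArg (BasedFunctor.comp c) hEq) ≪≫ i) ≪≫
      m₁ ≪≫ eqToIso (congrArg AlgSt.overMap hpt) ≪≫ m₂.symm
  let α : BasedFunctor.comp (BasedFunctor.comp l (fpFst f y')) f ≅
      BasedFunctor.comp (AlgSt.overMap jK) (BasedFunctor.comp (AlgSt.overMap hVo) y') :=
    (Stk.restr l _).mapIso (fpIso f y') ≪≫ (postB _ y').mapIso il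
  obtain ⟨R', _, _, _, φ, -, hφl, gψ, c', -, ⟨i₂⟩, ⟨i₃⟩⟩ := hval V sR (BasedFunctor.comp l (fpFst f y'))
    (BasedFunctor.comp (AlgSt.overMap hVo) y') α
  haveI := hφl
  let Φ := fpMap (F := f) (G := BasedFunctor.comp (AlgSt.overMap hVo) y') (F' := f) (G' := y') (BasedFunctor.id 𝒳)
    (AlgSt.overMap hVo) (BasedFunctor.id 𝒴) (Iso.refl _) (Iso.refl _)
  obtain ⟨u₁⟩ := fpLift_uniq l (BasedFunctor.comp (AlgSt.overMap jK) (AlgSt.overMap hVo)) il
  obtain ⟨u₂⟩ := nonempty_lift_comp_fpMap (f := f) (AlgSt.overMap hVo) y' (BasedFunctor.comp l (fpFst f y'))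
    (AlgSt.overMap jK) α
  let L : BasedFunctor.comp (fpLift (BasedFunctor.comp l (fpFst f y')) (AlgSt.overMap jK) α) Φ ≅ l :=
    u₂ ≪≫ u₁.symm
  let jK' : Over.mk (Spec.map (CommRingCat.ofHom (algebraMap R' (FractionRing R'))) ≫
      Spec.map (CommRingCat.ofHom φ) ≫ sR) ⟶ Over.mk (Spec.map (CommRingCat.ofHom φ) ≫ sR) :=
    Over.homMk (Spec.map (CommRingCat.ofHom (algebraMap R' (FractionRing R')))) rfl
  let pc := BasedFunctor.comp c' Φ
  let η : ↥(Spec (CommRingCat.of (FractionRing R'))) := closedPoint (FractionRing R')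
  let ζ : ↥(Spec (CommRingCat.of R')) := closedPoint R'
  have hgen : AlgSt.Points.ofChart pc (jK'.left η) = AlgSt.Points.ofChart c'' w := by
    refine ((ofChart_overMap jK' pc η).symm.trans (ofChart_congr ((postB _ Φ).mapIso i₃ :
      BasedFunctor.comp (AlgSt.overMap jK') pc ≅ BasedFunctor.comp (AlgSt.overMap gψ)
        (BasedFunctor.comp (fpLift (BasedFunctor.comp l (fpFst f y')) (AlgSt.overMap jK) α) Φ)) η)).trans ?_
    refine ((ofChart_congr ((Stk.restr (AlgSt.overMap gψ) _).mapIso L) η).trans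
      ((ofChart_overMap gψ l η).trans (ofChart_overMap ptW c'' _))).trans ?_
    refine congrArg _ ?_
    exact Scheme.fromSpecResidueField_apply w _
  have hN' : AE (fp f y') := isAlgStack_fp h𝒴.isStack h𝒴.diag h𝒳 (isAlgStack_overCat_et _) f y'
  have hsp' : AlgSt.Points.ofChart c'' w ⤳ AlgSt.Points.ofChart pc ζ := by
    rw [← hgen]
    exact (specializes_closedPoint (R := R') _).map (continuous_ofChart' hN' pc)
  obtain ⟨G, hG, ⟨a₁⟩, ⟨a₂⟩⟩ := exists_inverse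
    (isEquivOver_comp hE (isEquivOver_fpSwap y' f) : IsEquivOver Eq')
  have hN := isAlgStack_bc sA (q := fpFst y₁ f) (isAlgStack_fp_test h𝒳 h𝒴 y₁ f) B
  refine ⟨AlgSt.Points.map G (AlgSt.Points.ofChart pc ζ), ?_, ?_⟩
  · have := hsp'.map (continuous_map' hN G)
    rw [← map_ofChart c Eq', ← points_map_comp, points_map_congr a₁, points_map_id] at this
    exact this
  · rw [← hEq, ← points_map_comp, show BasedFunctor.comp G (BasedFunctor.comp Eq' (fpSnd f y')) =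
      BasedFunctor.comp (BasedFunctor.comp G Eq') (fpSnd f y') from rfl,
      ]
    refine (points_map_congr ((postB _ (fpSnd f y')).mapIso a₂) _).trans ?_
    show AlgSt.Points.map (fpSnd f y') (AlgSt.Points.ofChart pc _) = _
    rw [map_ofChart, ofChart_congr (eqToIso (show BasedFunctor.comp pc (fpSnd f y') =
      BasedFunctor.comp (BasedFunctor.comp c' (fpSnd f _)) (AlgSt.overMap hVo) from based_ext rfl) ≪≫
      (postB _ (AlgSt.overMap hVo)).mapIso i₂)]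
    refine ((ofChart_overMap _ (AlgSt.overMap hVo) _).trans
      (ofChart_overMap hVo (BasedFunctor.id _) _)).trans (congrArg _ ?_)
    show hV (PrimeSpectrum.comap φ (closedPoint R')) = t
    rw [IsLocalRing.comap_closedPoint φ, hVc]

theorem isClosedMap_over_affine (h𝒳 : AE 𝒳) (h𝒴 : AE 𝒴) {f : 𝒳 ⥤ᵇ 𝒴} (hval : DvrLiftSt f)
    (hqc : AlgSt.IsQuasiCompactMor Scheme.etalePrecoverage f) (hft : AlgSt.LocQ (AlgSp.LocP @LocallyOfFiniteType) f)
    [IsNoetherianRing A] (y₁ : overCat (Over.mk sA) ⥤ᵇ 𝒴) (hy₁ : AlgSt.RepByAlgSpWith (AlgSp.LocP @Smooth) y₁)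
    (B : Type u) [CommRing B] [Algebra A B] :
    IsClosedMap (AlgSt.Points.map (fpFst (BasedFunctor.comp (AlgSt.overMap (strHom sA B)) y₁) f)) := by
  have hM := isAlgStack_fp_test h𝒳 h𝒴 y₁ f
  haveI : CompactSpace ↥(Over.mk sA).left := inferInstanceAs (CompactSpace ↥(Spec (CommRingCat.of A)))
  obtain ⟨W₀, x₀, hW₀, hx₀, hx₀s⟩ := hqc _ (isAlgStack_overCat_et (Over.mk sA)) (isQuasiCompact_overCat _) y₁
  obtain ⟨k, ⟨j⟩⟩ := exists_overMap_iso (BasedFunctor.comp x₀ (fpFst y₁ f))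
  haveI := hW₀
  haveI hk : LocallyOfFiniteType k.left :=
    AlgSp.locP_yon_map (good_of_locQ' smST_lft h𝒳.isStack.1 h𝒴.isStack.1 hft hy₁ W₀ x₀ k hx₀ j)
  obtain ⟨φ, hφ⟩ := Spec.map_surjective (W₀.left.isoSpec.inv ≫ k.left)
  letI : Algebra A Γ(W₀.left, ⊤) := φ.hom.toAlgebra
  haveI : Algebra.FiniteType A Γ(W₀.left, ⊤) := by
    have : LocallyOfFiniteType (Spec.map φ) := by rw [hφ]; infer_instance
    exact (HasRingHomProperty.Spec_iff (P := @LocallyOfFiniteType)).1 this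
  let i₀ : spo sA Γ(W₀.left, ⊤) ⟶ W₀ := Over.homMk W₀.left.isoSpec.inv (by
    show W₀.left.isoSpec.inv ≫ W₀.hom = Spec.map φ ≫ sA
    rw [hφ, Category.assoc]
    exact congrArg (W₀.left.isoSpec.inv ≫ ·) (Over.w k).symm)
  haveI : IsIso i₀.left := inferInstanceAs (IsIso W₀.left.isoSpec.inv)
  have hik : i₀ ≫ k = strHom sA Γ(W₀.left, ⊤) := Over.OverMorphism.ext hφ.symm
  let e := BasedFunctor.comp (AlgSt.overMap i₀) x₀
  have he : AlgSt.RepByAlgSpWith (AlgSp.LocP @Smooth) e :=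
    with_comp_chart AlgSpLib.etLocal_smooth i₀ inferInstance hx₀
  have hes : Function.Surjective (AlgSt.Points.ofChart e) := fun z => by
    obtain ⟨s, rfl⟩ := ofChart_surjective hM.isStack.1 hx₀s z
    obtain ⟨s', rfl⟩ := i₀.left.surjective s
    exact ⟨s', ofChart_overMap i₀ x₀ s'⟩
  obtain ⟨m⟩ := overMap_comp i₀ k
  let ie : BasedFunctor.comp e (fpFst y₁ f) ≅ AlgSt.overMap (strHom sA Γ(W₀.left, ⊤)) :=
    (Stk.restr (AlgSt.overMap i₀) _).mapIso j ≪≫ m ≪≫ eqToIso (congrArg AlgSt.overMap hik)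
  have h1 : IsClosedMap (AlgSt.Points.map (fpFst (AlgSt.overMap (strHom sA B)) (fpFst y₁ f))) := by
    refine closed_of_affineSpace sA hM ie he hes (fun n => ?_) B
    refine closed_of_specializing sA hM ie hes _ fun w c i t ht => ?_
    exact exists_lift_of_dvr h𝒳 h𝒴 hval y₁ _ w c i t ht
  exact (closed_of_equiv (isAlgStack_bc sA (q := fpFst y₁ f) hM B) (isAlgStack_fp_test h𝒳 h𝒴 _ f)
    (isEquivOver_fpPaste _ y₁ f) (eqToIso (fpPaste_fst _ y₁ f))).1 h1

theorem isUnivClosed_of_dvr (h𝒳 : AE 𝒳) (h𝒴 : AE 𝒴)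
    (hn𝒴 : AlgSt.SmoothLocally (fun T => IsLocallyNoetherian T) 𝒴) (f : 𝒳 ⥤ᵇ 𝒴)
    (hqc : AlgSt.IsQuasiCompactMor Scheme.etalePrecoverage f)
    (hft : AlgSt.LocQ (AlgSp.LocP @LocallyOfFiniteType) f) (hval : DvrLiftSt f) :
    AlgSt.IsUnivClosed Scheme.etalePrecoverage f := by
  refine isUnivClosed_of_tests h𝒳 h𝒴 f fun U y => closed_of_cover h𝒳 h𝒴 f y fun t => ?_
  obtain ⟨V, y₀, hy₀, hy₀s⟩ := h𝒴.atlas
  haveI : IsLocallyNoetherian V.left := hn𝒴 V y₀ hy₀
  obtain ⟨W, p, q, ⟨α⟩, hq, -, hsurj⟩ := exists_chart_fp h𝒴.isStack.1 y (repByAlgSp1_of_with hy₀)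
  haveI := hq AlgSpLib.etLocal_smooth hy₀
  obtain ⟨s, hs⟩ := ofChart_surjective h𝒴.isStack.1 hy₀s (AlgSt.Points.ofChart y t)
  obtain ⟨w, -, rfl⟩ := hsurj s t hs
  obtain ⟨R, hR, hwR, -⟩ := exists_isAffineOpen_mem_and_subset (X := V.left) (x := p.left w) (U := ⊤) trivial
  obtain ⟨O, hO, hwO, hOR⟩ := exists_isAffineOpen_mem_and_subset (X := W.left) (x := w) (U := p.left ⁻¹ᵁ R) hwR
  let sA : Spec Γ(V.left, R) ⟶ S := hR.fromSpec ≫ V.hom
  let jR : Over.mk sA ⟶ V := Over.homMk hR.fromSpec rfl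
  haveI : IsOpenImmersion jR.left := inferInstanceAs (IsOpenImmersion hR.fromSpec)
  haveI : IsNoetherianRing Γ(V.left, R) := IsLocallyNoetherian.component_noetherian ⟨R, hR⟩
  have hr : Set.range (hO.fromSpec ≫ p.left) ⊆ Set.range hR.fromSpec := by
    rintro _ ⟨x, rfl⟩
    rw [hR.range_fromSpec]
    exact hOR (hO.range_fromSpec ▸ ⟨x, rfl⟩ : hO.fromSpec x ∈ (O : Set W.left))
  obtain ⟨φ, hφ⟩ := Spec.map_surjective (IsOpenImmersion.lift hR.fromSpec (hO.fromSpec ≫ p.left) hr)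
  letI : Algebra Γ(V.left, R) Γ(W.left, O) := φ.hom.toAlgebra
  have hφ' : Spec.map φ ≫ hR.fromSpec = hO.fromSpec ≫ p.left := by rw [hφ, IsOpenImmersion.lift_fac]
  let oW : spo sA Γ(W.left, O) ⟶ W := Over.homMk hO.fromSpec (by
    show hO.fromSpec ≫ W.hom = Spec.map φ ≫ hR.fromSpec ≫ V.hom
    rw [reassoc_of% hφ', Over.w p])
  haveI : IsOpenImmersion oW.left := inferInstanceAs (IsOpenImmersion hO.fromSpec)
  have hcomm : oW ≫ p = strHom sA Γ(W.left, O) ≫ jR := Over.OverMorphism.ext hφ'.symm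
  let y₁ := BasedFunctor.comp (AlgSt.overMap jR) y₀
  have hy₁ : AlgSt.RepByAlgSpWith (AlgSp.LocP @Smooth) y₁ :=
    with_comp_chart AlgSpLib.etLocal_smooth jR inferInstance hy₀
  obtain ⟨m₁⟩ := overMap_comp oW q
  obtain ⟨m₂⟩ := overMap_comp oW p
  obtain ⟨m₃⟩ := overMap_comp (strHom sA Γ(W.left, O)) jR
  refine ⟨_, oW ≫ q, BasedFunctor.comp (AlgSt.overMap (strHom sA Γ(W.left, O))) y₁,
    ⟨(postB _ y).mapIso m₁.symm ≪≫ (Stk.restr (AlgSt.overMap oW) _).mapIso α.symm ≪≫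
      (postB _ y₀).mapIso (m₂ ≪≫ eqToIso (congrArg AlgSt.overMap hcomm) ≪≫ m₃.symm)⟩, ?_, ?_,
    isClosedMap_over_affine h𝒳 h𝒴 hval hqc hft y₁ hy₁ _⟩
  · show IsOpenMap (oW.left ≫ q.left)
    exact q.left.isOpenMap.comp oW.left.isOpenEmbedding.isOpenMap
  · obtain ⟨w', hw'⟩ : w ∈ Set.range hO.fromSpec := by rw [hO.range_fromSpec]; exact hwO
    exact ⟨w', congrArg q.left hw'⟩

end Groth.Agent.Stk19b.UCDvr
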