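import Groth.Agent.Stk19b.UCDvr.Chart
import Groth.Agent.UCLib.AffineSpace
import Groth.Agent.AlgSpLib.UnivClosedQC

/-! Closedness of a functor to an affine Noetherian scheme after every base change from closedness over affine spaces. -/

set_option autoImplicit false
set_option linter.style.haveILetI false
set_option backward.isDefEq.respectTransparency false
set_option backward.isDefEq.respectTransparency.types false

universe u

open CategoryTheory CategoryTheory.Limits AlgebraicGeometry Opposite FibCat Topology TensorProduct Groth.Agent.Desc19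

noncomputable section

namespace Groth.Agent.Stk19b.UCDvr

open Groth.Agent.Stk19

variable {S : Scheme.{u}} {𝒲 𝒳₀ : AlgSt.Cat S}

/-- Functors to a fibre product over a slice are determined by their projections. -/
theorem nonempty_iso_of_projections {V : Over S} {𝒜 ℬ : AlgSt.Cat S} {a : 𝒜 ⥤ᵇ overCat V} {b : ℬ ⥤ᵇ overCat V}
    {𝒞 : AlgSt.Cat S} (K K' : 𝒞 ⥤ᵇ fp a b) (i : BasedFunctor.comp K (fpFst a b) ≅ BasedFunctor.comp K' (fpFst a b))
    (j : BasedFunctor.comp K (fpSnd a b) ≅ BasedFunctor.comp K' (fpSnd a b)) : Nonempty (K ≅ K') :=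
  ⟨isoMk (fun x => fpIsoMk (appIso i x) (appIso j x) (by
      haveI : (overCat V).p.Faithful := inferInstanceAs (Over.forget V).Faithful
      apply (overCat V).p.map_injective
      rw [Functor.map_comp, Functor.map_comp, based_map a, based_map b, fp_iso_map, fp_iso_map]
      have h1 := i.hom.isHomLift (rfl : 𝒞.p.obj x = _)
      have h2 := j.hom.isHomLift (rfl : 𝒞.p.obj x = _)
      obtain ⟨-, e1, h1⟩ := (vert_iff _ _).1 h1
      obtain ⟨-, e2, h2⟩ := (vert_iff _ _).1 h2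
      rw [show 𝒜.p.map (appIso i x).hom = _ from h1, show ℬ.p.map (appIso j x).hom = _ from h2]
      simp))
    (fun x => fpIsoMk_vert _ _ _ (i.hom.isHomLift (K.w_obj x).symm))
    (fun φ => fp_hom_ext (i.hom.toNatTrans.naturality φ) (j.hom.toNatTrans.naturality φ))⟩

/-- Pasting followed by a change of the base functor. -/
theorem exists_paste {𝒜 ℬ 𝒞 𝒟 : AlgSt.Cat S} (a : 𝒜 ⥤ᵇ ℬ) (b : ℬ ⥤ᵇ 𝒞) (q : 𝒟 ⥤ᵇ 𝒞) {c : 𝒜 ⥤ᵇ 𝒞}
    (m : BasedFunctor.comp a b ≅ c) :
    ∃ E : fp a (fpFst b q) ⥤ᵇ fp c q, IsEquivOver E ∧ BasedFunctor.comp E (fpFst c q) = fpFst a (fpFst b q) ∧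
      BasedFunctor.comp E (fpSnd c q) = BasedFunctor.comp (fpSnd a (fpFst b q)) (fpSnd b q) := by
  obtain ⟨E₂, hE₂, hE₂f, hE₂s⟩ := exists_congr (F := BasedFunctor.comp a b) (G := q) m (Iso.refl _)
  refine ⟨BasedFunctor.comp (fpPaste a b q) E₂, isEquivOver_comp (isEquivOver_fpPaste a b q) hE₂, ?_, ?_⟩
  · show BasedFunctor.comp (fpPaste a b q) (BasedFunctor.comp E₂ (fpFst c q)) = _
    rw [hE₂f]
    exact fpPaste_fst a b q
  · show BasedFunctor.comp (fpPaste a b q) (BasedFunctor.comp E₂ (fpSnd c q)) = _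
    rw [hE₂s]
    exact based_ext rfl

variable {A : Type u} [CommRing A] (sA : Spec (CommRingCat.of A) ⟶ S)

/-- The spectrum of an algebra over the base. -/
abbrev spo (B : Type u) [CommRing B] [Algebra A B] : Over S :=
  Over.mk (Spec.map (CommRingCat.ofHom (algebraMap A B)) ≫ sA)

/-- Its structure morphism. -/
def strHom (B : Type u) [CommRing B] [Algebra A B] : spo sA B ⟶ Over.mk sA :=
  Over.homMk (Spec.map (CommRingCat.ofHom (algebraMap A B))) rfl

/-- The morphism of spectra of an algebra map. -/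
def spMap {B B' : Type u} [CommRing B] [CommRing B'] [Algebra A B] [Algebra A B'] (α : B' →ₐ[A] B) :
    spo sA B ⟶ spo sA B' :=
  Over.homMk (Spec.map (CommRingCat.ofHom α.toRingHom)) (by
    show Spec.map _ ≫ Spec.map _ ≫ sA = Spec.map _ ≫ sA
    rw [← Spec.map_comp_assoc, ← CommRingCat.ofHom_comp, AlgHom.toRingHom_eq_coe, AlgHom.comp_algebraMap])

theorem spMap_strHom {B B' : Type u} [CommRing B] [CommRing B'] [Algebra A B] [Algebra A B'] (α : B' →ₐ[A] B) :
    spMap sA α ≫ strHom sA B' = strHom sA B := by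
  refine Over.OverMorphism.ext ?_
  show Spec.map _ ≫ Spec.map _ = Spec.map _
  rw [← Spec.map_comp, ← CommRingCat.ofHom_comp, AlgHom.toRingHom_eq_coe, AlgHom.comp_algebraMap]

theorem spMap_comp {B B' B'' : Type u} [CommRing B] [CommRing B'] [CommRing B''] [Algebra A B] [Algebra A B']
    [Algebra A B''] (α : B' →ₐ[A] B) (β : B'' →ₐ[A] B') : spMap sA α ≫ spMap sA β = spMap sA (α.comp β) := by
  refine Over.OverMorphism.ext ?_
  show Spec.map _ ≫ Spec.map _ = Spec.map _
  rw [← Spec.map_comp, ← CommRingCat.ofHom_comp]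
  rfl

section Chart

variable {C : Type u} [CommRing C] [Algebra A C] (B : Type u) [CommRing B] [Algebra A B]

/-- The first projection of the chart over an algebra. -/
abbrev pr₁ : spo sA (C ⊗[A] B) ⟶ spo sA C := spMap sA (Algebra.TensorProduct.includeLeft : C →ₐ[A] C ⊗[A] B)

/-- The second projection of the chart over an algebra. -/
abbrev pr₂ : spo sA (C ⊗[A] B) ⟶ spo sA B := spMap sA (Algebra.TensorProduct.includeRight : B →ₐ[A] C ⊗[A] B)

theorem isPullback_chart : IsPullback (pr₁ (C := C) sA B) (pr₂ (C := C) sA B) (strHom sA C) (strHom sA B) :=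
  IsPullback.of_map (Over.forget S) ((spMap_strHom sA _).trans (spMap_strHom sA _).symm)
    (isPullback_SpecMap_of_isPushout _ _ _ _ (CommRingCat.isPushout_tensorProduct A C B))

end Chart

section Closed

variable {q : 𝒲 ⥤ᵇ overCat (Over.mk sA)} {C : Type u} [CommRing C] [Algebra A C]
  {e : overCat (spo sA C) ⥤ᵇ 𝒲}

/-- The base change of `q` to an algebra. -/
abbrev bc (q : 𝒲 ⥤ᵇ overCat (Over.mk sA)) (B : Type u) [CommRing B] [Algebra A B] : AlgSt.Cat S :=
  fp (AlgSt.overMap (strHom sA B)) q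

theorem isAlgStack_bc (hW : AlgSt.IsAlgStack Scheme.etalePrecoverage 𝒲) (B : Type u) [CommRing B] [Algebra A B] :
    AlgSt.IsAlgStack Scheme.etalePrecoverage (bc sA q B) :=
  isAlgStack_fp (isAlgStack_overCat_et _).isStack (isAlgStack_overCat_et _).diag (isAlgStack_overCat_et _) hW _ _

theorem chart_smooth {𝒩 : AlgSt.Cat S} {W : Over S} {p : 𝒩 ⥤ᵇ 𝒲} {ch : overCat W ⥤ᵇ 𝒲} {P : Over S}
    {T : overCat P ⥤ᵇ fp p ch} (hT : IsEquivOver T) (h : AlgSt.RepByAlgSpWith (AlgSp.LocP @Smooth) ch) :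
    AlgSt.RepByAlgSpWith (AlgSp.LocP @Smooth) (BasedFunctor.comp T (fpFst p ch)) :=
  with_equiv_comp hT (repByAlgSpWith_fpFst _ h)

theorem chart_surjective {𝒩 : AlgSt.Cat S} (h𝒲 : IsFibGrpd 𝒲.p) (h𝒩 : IsFibGrpd 𝒩.p) {W : Over S}
    {p : 𝒩 ⥤ᵇ 𝒲} {ch : overCat W ⥤ᵇ 𝒲} {P : Over S} {T : overCat P ⥤ᵇ fp p ch} (hT : IsEquivOver T)
    (h : Function.Surjective (AlgSt.Points.ofChart ch)) :
    Function.Surjective (AlgSt.Points.ofChart (BasedFunctor.comp T (fpFst p ch))) := fun z => by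
  obtain ⟨s, hs⟩ := h (AlgSt.Points.map p z)
  obtain ⟨w, hw, -⟩ := exists_points_fp (isFibGrpd_overCat W) h𝒲 h𝒩 ch p z
    (AlgSt.Points.ofChart (BasedFunctor.id _) s) (by rw [← ofChart_eq_map]; exact hs.symm)
  obtain ⟨v, rfl⟩ := (map_bijective hT).2 w
  obtain ⟨t, rfl⟩ := (ofChart_id_bijective P).2 v
  exact ⟨t, by rw [← hw, ← points_map_comp, ← ofChart_eq_map]⟩

theorem map_ofChart_of_iso {𝒩 : AlgSt.Cat S} {P T : Over S} {c : overCat P ⥤ᵇ 𝒩} {p : 𝒩 ⥤ᵇ overCat T}
    {k : P ⟶ T} (i : BasedFunctor.comp c p ≅ AlgSt.overMap k) (w : ↥P.left) :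
    AlgSt.Points.map p (AlgSt.Points.ofChart c w) = AlgSt.Points.ofChart (BasedFunctor.id _) (k.left w) := by
  rw [map_ofChart, ofChart_congr i]
  exact ofChart_overMap k (BasedFunctor.id _) w

/-- Closedness from lifting of specializations. -/
theorem closed_of_specializing (hW : AlgSt.IsAlgStack Scheme.etalePrecoverage 𝒲)
    (i : BasedFunctor.comp e q ≅ AlgSt.overMap (strHom sA C)) (hes : Function.Surjective (AlgSt.Points.ofChart e))
    (B : Type u) [CommRing B] [Algebra A B]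
    (hl : ∀ (w : ↥(spo sA (C ⊗[A] B)).left) (c : overCat (spo sA (C ⊗[A] B)) ⥤ᵇ bc sA q B)
      (_ : BasedFunctor.comp c (fpFst (AlgSt.overMap (strHom sA B)) q) ≅ AlgSt.overMap (pr₂ (C := C) sA B))
      (t : ↥(spo sA B).left), (pr₂ (C := C) sA B).left w ⤳ t →
      ∃ z, AlgSt.Points.ofChart c w ⤳ z ∧
        AlgSt.Points.map (fpFst (AlgSt.overMap (strHom sA B)) q) z = AlgSt.Points.ofChart (BasedFunctor.id _) t) :
    IsClosedMap (AlgSt.Points.map (fpFst (AlgSt.overMap (strHom sA B)) q)) := by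
  intro Z hZ
  have hN := isAlgStack_bc sA (q := q) hW B
  obtain ⟨T, hT, ⟨i'⟩, -⟩ := exists_chart_bc (g := strHom sA B) i (isPullback_chart sA B)
  let c := BasedFunctor.comp T (fpFst (fpSnd (AlgSt.overMap (strHom sA B)) q) e)
  have hcs := chart_surjective hW.isStack.1 hN.isStack.1 hT hes
  let f : B →+* C ⊗[A] B := (Algebra.TensorProduct.includeRight : B →ₐ[A] C ⊗[A] B).toRingHom
  let Z' : Set (PrimeSpectrum (C ⊗[A] B)) := AlgSt.Points.ofChart c ⁻¹' Z
  have hZ' : IsClosed Z' := hZ.preimage (continuous_ofChart' hN c)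
  have key : AlgSt.Points.map (fpFst (AlgSt.overMap (strHom sA B)) q) '' Z =
      AlgSt.Points.ofChart (BasedFunctor.id (overCat (spo sA B))) '' (PrimeSpectrum.comap f '' Z') := by
    rw [← Set.image_preimage_eq Z hcs, Set.image_image, Set.image_image]
    exact Set.image_congr fun w _ => map_ofChart_of_iso i' w
  have hst : StableUnderSpecialization (PrimeSpectrum.comap f '' Z') := by
    rintro _ t ht ⟨w, hw, rfl⟩
    obtain ⟨z, hz, hzt⟩ := hl w c i' t ht
    obtain ⟨w', rfl⟩ := hcs z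
    refine ⟨w', hz.mem_closed hZ hw, (ofChart_id_bijective (spo sA B)).1 ?_⟩
    exact (map_ofChart_of_iso i' w').symm.trans hzt
  have hc := PrimeSpectrum.isClosed_image_of_stableUnderSpecialization f Z' hZ' hst
  rw [key, ← isOpen_compl_iff]
  refine AlgSt.Points.isOpen_iff.2 fun U x _ => ?_
  obtain ⟨k, ⟨j⟩⟩ := exists_overMap_iso x
  have hx : AlgSt.Points.ofChart x = AlgSt.Points.ofChart (BasedFunctor.id _) ∘ k.left :=
    funext fun w => (ofChart_congr j w).trans (ofChart_overMap k (BasedFunctor.id _) w)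
  rw [hx, Set.preimage_comp, Set.preimage_compl, (ofChart_id_bijective (spo sA B)).1.preimage_image]
  exact hc.isOpen_compl.preimage k.left.continuous

/-- Closedness over affine spaces gives it over every algebra. -/
theorem closed_of_affineSpace (hW : AlgSt.IsAlgStack Scheme.etalePrecoverage 𝒲)
    (i : BasedFunctor.comp e q ≅ AlgSt.overMap (strHom sA C))
    (he : AlgSt.RepByAlgSpWith (AlgSp.LocP @Smooth) e) (hes : Function.Surjective (AlgSt.Points.ofChart e))
    (hn : ∀ n : ℕ, IsClosedMap (AlgSt.Points.map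
      (fpFst (AlgSt.overMap (strHom sA (MvPolynomial (ULift.{u} (Fin n)) A))) q)))
    (B : Type u) [CommRing B] [Algebra A B] :
    IsClosedMap (AlgSt.Points.map (fpFst (AlgSt.overMap (strHom sA B)) q)) := by
  classical
  intro Z hZ
  have hN := isAlgStack_bc sA (q := q) hW B
  obtain ⟨T, hT, ⟨i'⟩, ⟨j'⟩⟩ := exists_chart_bc (g := strHom sA B) i (isPullback_chart sA B)
  let c := BasedFunctor.comp T (fpFst (fpSnd (AlgSt.overMap (strHom sA B)) q) e)
  have hcs := chart_surjective hW.isStack.1 hN.isStack.1 hT hes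
  let Z' : Set (PrimeSpectrum (C ⊗[A] B)) := AlgSt.Points.ofChart c ⁻¹' Z
  let J : Ideal (C ⊗[A] B) := PrimeSpectrum.vanishingIdeal Z'
  have hJZ : PrimeSpectrum.zeroLocus (J : Set (C ⊗[A] B)) = Z' :=
    (PrimeSpectrum.zeroLocus_vanishingIdeal_eq_closure _).trans (hZ.preimage (continuous_ofChart' hN c)).closure_eq
  rw [← isOpen_compl_iff]
  refine AlgSt.Points.isOpen_iff.2 fun U x _ => ?_
  obtain ⟨k, ⟨jk⟩⟩ := exists_overMap_iso x
  have hx : AlgSt.Points.ofChart x = AlgSt.Points.ofChart (BasedFunctor.id _) ∘ k.left :=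
    funext fun w => (ofChart_congr jk w).trans (ofChart_overMap k (BasedFunctor.id _) w)
  rw [hx, Set.preimage_comp]
  refine IsOpen.preimage k.left.continuous (isOpen_iff_forall_mem_open.2 fun t ht => ?_)
  obtain ⟨F, hF⟩ := UCLib.exists_finset J (PrimeSpectrum.asIdeal t) fun Q hQ hle hc => ht
    ⟨AlgSt.Points.ofChart c ⟨Q, hQ⟩, show (⟨Q, hQ⟩ : PrimeSpectrum _) ∈ Z' from hJZ ▸ hle,
      (map_ofChart_of_iso i' _).trans (congrArg _ (PrimeSpectrum.ext hc))⟩
  let A' := MvPolynomial (ULift.{u} (Fin F.card)) A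
  let α : A' →ₐ[A] B := MvPolynomial.aeval fun l => (F.equivFin.symm l.down : B)
  have hFα : (↑F : Set B) ⊆ Set.range α := fun b hb =>
    ⟨MvPolynomial.X ⟨F.equivFin ⟨b, hb⟩⟩, by
      show MvPolynomial.aeval _ (MvPolynomial.X _) = b
      rw [MvPolynomial.aeval_X]
      simp⟩
  let u₀ : spo sA (C ⊗[A] B) ⟶ spo sA (C ⊗[A] A') := spMap sA (Algebra.TensorProduct.map (AlgHom.id A C) α)
  let g' : spo sA B ⟶ spo sA A' := spMap sA α
  have hu₁ : u₀ ≫ pr₁ (C := C) sA A' = pr₁ (C := C) sA B := by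
    rw [spMap_comp]
    refine congrArg (spMap sA) ?_
    ext x
    simp
  have hu₂ : u₀ ≫ pr₂ (C := C) sA A' = pr₂ (C := C) sA B ≫ g' := by
    rw [spMap_comp, spMap_comp]
    refine congrArg (spMap sA) ?_
    ext x
    simp
  have sqB : IsPullback u₀ (pr₂ (C := C) sA B) (pr₂ (C := C) sA A') g' := by
    refine IsPullback.of_right ?_ hu₂ (isPullback_chart sA A')
    rw [hu₁, spMap_strHom]
    exact isPullback_chart sA B
  -- over the affine space
  have hNn := isAlgStack_bc sA (q := q) hW A'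
  obtain ⟨Tn, hTn, ⟨iₙ⟩, ⟨jₙ⟩⟩ := exists_chart_bc (g := strHom sA A') i (isPullback_chart sA A')
  let cn := BasedFunctor.comp Tn (fpFst (fpSnd (AlgSt.overMap (strHom sA A')) q) e)
  have hcn : AlgSt.RepByAlgSpWith (AlgSp.LocP @Smooth) cn := chart_smooth hTn he
  obtain ⟨TB, hTB, ⟨iB⟩, ⟨jB⟩⟩ := exists_chart_bc (g := g') (e := cn) iₙ sqB
  let qn := fpFst (AlgSt.overMap (strHom sA A')) q
  let cB := BasedFunctor.comp TB (fpFst (fpSnd (AlgSt.overMap g') qn) cn)
  obtain ⟨m⟩ := overMap_comp g' (strHom sA A')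
  obtain ⟨E, hE, hEf, hEs⟩ := exists_paste (AlgSt.overMap g') (AlgSt.overMap (strHom sA A')) q
    (c := AlgSt.overMap (strHom sA B)) (m ≪≫ eqToIso (congrArg AlgSt.overMap (spMap_strHom sA α)))
  -- the two charts of the base change agree
  obtain ⟨mu⟩ := overMap_comp u₀ (pr₁ (C := C) sA A')
  obtain ⟨hcc⟩ := nonempty_iso_of_projections (BasedFunctor.comp cB E) c
    (eqToIso (congrArg (BasedFunctor.comp cB) hEf) ≪≫ iB ≪≫ i'.symm)
    (eqToIso (congrArg (BasedFunctor.comp cB) hEs) ≪≫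
      (Stk.restr TB _).mapIso ((postB _ (fpSnd (AlgSt.overMap (strHom sA A')) q)).mapIso (fpIso _ cn)) ≪≫
      (postB _ (BasedFunctor.comp cn (fpSnd (AlgSt.overMap (strHom sA A')) q))).mapIso jB ≪≫
      (Stk.restr (AlgSt.overMap u₀) _).mapIso ((Stk.restr Tn _).mapIso (fpIso _ e) ≪≫ (postB _ e).mapIso jₙ) ≪≫
      (postB _ e).mapIso (mu ≪≫ eqToIso (congrArg AlgSt.overMap hu₁) ≪≫ j'.symm) ≪≫
      (Stk.restr T _).mapIso (fpIso _ e).symm)
  let h := fpSnd (AlgSt.overMap g') qn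
  let Z₂ : Set (AlgSt.Points (fp (AlgSt.overMap g') qn)) := AlgSt.Points.map E ⁻¹' Z
  let X : Set (AlgSt.Points (bc sA q A')) := closure (AlgSt.Points.map h '' Z₂)
  let D : Set (PrimeSpectrum A') :=
    AlgSt.Points.ofChart (BasedFunctor.id (overCat (spo sA A'))) ⁻¹' (AlgSt.Points.map qn '' X)
  have hD : IsClosed D :=
    (hn F.card _ isClosed_closure).preimage (continuous_ofChart' (isAlgStack_overCat_et _) _)
  refine ⟨g'.left ⁻¹' Dᶜ, ?_, hD.isOpen_compl.preimage g'.left.continuous, ?_⟩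
  · rintro t₁ ht₁ ⟨z, hz, hzt⟩
    obtain ⟨w, rfl⟩ := hcs z
    refine ht₁ ⟨AlgSt.Points.map h (AlgSt.Points.ofChart cB w), subset_closure ⟨_, ?_, rfl⟩, ?_⟩
    · show AlgSt.Points.map E (AlgSt.Points.ofChart cB w) ∈ Z
      rw [map_ofChart, ofChart_congr hcc]
      exact hz
    · have ht₁' : (pr₂ (C := C) sA B).left w = t₁ :=
        (ofChart_id_bijective (spo sA B)).1 ((map_ofChart_of_iso i' w).symm.trans hzt)
      rw [← points_map_comp, points_map_congr (fpIso (AlgSt.overMap g') qn).symm, points_map_comp,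
        map_ofChart_of_iso iB, ← ofChart_eq_map, ht₁']
      exact ofChart_overMap g' (BasedFunctor.id _) t₁
  · rintro ⟨z, hz, hzt⟩
    obtain ⟨Q, rfl⟩ := chart_surjective hW.isStack.1 hNn.isStack.1 hTn hes z
    have hQ : g'.left t = (pr₂ (C := C) sA A').left Q :=
      (ofChart_id_bijective (spo sA A')).1 (hzt.symm.trans (map_ofChart_of_iso iₙ Q))
    have hsub : AlgSt.Points.ofChart cn ⁻¹' (AlgSt.Points.map h '' Z₂) ⊆
        u₀.left '' Z' := by
      rintro v ⟨z₂, hz₂, hzv⟩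
      obtain ⟨w, hw₁, hw₂⟩ := exists_points_fp (isFibGrpd_overCat _) hNn.isStack.1
        (fibGrpd_fp (isFibGrpd_overCat _) hNn.isStack.1 (isFibGrpd_overCat _) _ _) cn h z₂
        (AlgSt.Points.ofChart (BasedFunctor.id _) v) (by rw [← ofChart_eq_map]; exact hzv)
      obtain ⟨p', rfl⟩ := (map_bijective hTB).2 w
      obtain ⟨p, rfl⟩ := (ofChart_id_bijective _).2 p'
      refine ⟨p, ?_, (ofChart_id_bijective _).1 ?_⟩
      · show AlgSt.Points.ofChart c p ∈ Z
        rw [← ofChart_congr hcc, ← map_ofChart]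
        have : AlgSt.Points.ofChart cB p = z₂ := by rw [← hw₁, ← points_map_comp, ← ofChart_eq_map]
        rw [this]
        exact hz₂
      · rw [← hw₂, ← points_map_comp, points_map_congr jB, ← ofChart_eq_map]
        exact (ofChart_overMap u₀ (BasedFunctor.id _) p).symm
    have hQ' : Q ∈ PrimeSpectrum.zeroLocus
        ((J.comap (Algebra.TensorProduct.map (AlgHom.id A C) α).toRingHom : Ideal (C ⊗[A] A')) : Set (C ⊗[A] A')) := by
      rw [← PrimeSpectrum.closure_image_comap_zeroLocus, hJZ]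
      exact closure_mono hsub ((isOpenMap_ofChart_smooth hNn.isStack.1 hcn).preimage_closure_subset_closure_preimage hz)
    exact hF A' α hFα Q.asIdeal Q.isPrime hQ' (congrArg PrimeSpectrum.asIdeal hQ.symm)

end Closed

end Groth.Agent.Stk19b.UCDvr
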