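import Groth.Agent.Stk19b.UCDvr.Basic

/-! Base change of a chart along a cartesian square of schemes, with all the compatibilities. -/

set_option autoImplicit false
set_option backward.isDefEq.respectTransparency false
set_option backward.isDefEq.respectTransparency.types false

universe u

open CategoryTheory CategoryTheory.Limits AlgebraicGeometry Opposite FibCat Groth.Agent.Desc19

namespace Groth.Agent.Stk19b.UCDvr

open Groth.Agent.Stk19

variable {S : Scheme.{u}} {𝒲 : AlgSt.Cat S}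

/-- A chart of the base change, as a base change of the chart along `fpSnd`. -/
theorem exists_chart_bc {V G W P : Over S} {q : 𝒲 ⥤ᵇ overCat V} {g : G ⟶ V} {e : overCat W ⥤ᵇ 𝒲}
    {k : W ⟶ V} (i : BasedFunctor.comp e q ≅ AlgSt.overMap k) {fst : P ⟶ W} {snd : P ⟶ G}
    (sq : IsPullback fst snd k g) :
    ∃ T : overCat P ⥤ᵇ fp (fpSnd (AlgSt.overMap g) q) e, IsEquivOver T ∧
      Nonempty (BasedFunctor.comp (BasedFunctor.comp T (fpFst _ e)) (fpFst (AlgSt.overMap g) q) ≅ AlgSt.overMap snd) ∧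
      Nonempty (BasedFunctor.comp T (fpSnd _ e) ≅ AlgSt.overMap fst) := by
  obtain ⟨E, hE, hE₁, hE₀⟩ := exists_fp_equiv (sq.map (AlgSp.yon S)).flip
  obtain ⟨hfull, hfaith, -⟩ := EqvData.of_isEquivOver (isEquivOver_toOverCat V)
  let E₁ : fp (AlgSt.ofSpMap ((AlgSp.yon S).map g)) (AlgSt.ofSpMap ((AlgSp.yon S).map k)) ⥤ᵇ
      fp (AlgSt.overMap g) (AlgSt.overMap k) :=
    fpMap (AlgSt.toOverCat G) (AlgSt.toOverCat W) (AlgSt.toOverCat V) (Iso.refl _) (Iso.refl _)
  have hE₁' : IsEquivOver E₁ := isEquivOver_fpMap _ _ _ _ _ (isEquivOver_toOverCat G) (isEquivOver_toOverCat W)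
  obtain ⟨E₂, hE₂, hE₂f, hE₂s⟩ := exists_congr (F := AlgSt.overMap g) (G := AlgSt.overMap k) (Iso.refl _) i.symm
  obtain ⟨G', hG', -, ⟨c⟩⟩ := exists_inverse (isEquivOver_fpCompFactor (AlgSt.overMap g) e q)
  let T := BasedFunctor.comp (BasedFunctor.comp (AlgSt.ofOverCat P) E)
    (BasedFunctor.comp E₁ (BasedFunctor.comp E₂ G'))
  have hT : IsEquivOver T := isEquivOver_comp (isEquivOver_comp (isEquivOver_ofOverCat _) hE)
    (isEquivOver_comp hE₁' (isEquivOver_comp hE₂ hG'))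
  let T₀ := BasedFunctor.comp (BasedFunctor.comp (AlgSt.ofOverCat P) E) (BasedFunctor.comp E₁ E₂)
  refine ⟨T, hT, ⟨?_⟩, ⟨?_⟩⟩
  · refine (Stk.restr T₀ _).mapIso ((postB _ (fpFst (AlgSt.overMap g) (BasedFunctor.comp e q))).mapIso c) ≪≫ eqToIso ?_
    show BasedFunctor.comp (BasedFunctor.comp (AlgSt.ofOverCat P) E)
      (BasedFunctor.comp E₁ (BasedFunctor.comp E₂ (fpFst (AlgSt.overMap g) (BasedFunctor.comp e q)))) = _
    rw [hE₂f]
    show BasedFunctor.comp (AlgSt.ofOverCat P)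
      (BasedFunctor.comp (BasedFunctor.comp E (fpFst _ _)) (AlgSt.toOverCat G)) = _
    rw [hE₁]
    rfl
  · have hC : BasedFunctor.comp (fpCompFactor (AlgSt.overMap g) e q) (fpSnd (AlgSt.overMap g) (BasedFunctor.comp e q)) =
        fpSnd (fpSnd (AlgSt.overMap g) q) e := based_ext rfl
    refine eqToIso (show BasedFunctor.comp T (fpSnd _ e) = BasedFunctor.comp T₀ (BasedFunctor.comp G'
      (BasedFunctor.comp (fpCompFactor (AlgSt.overMap g) e q) (fpSnd (AlgSt.overMap g) (BasedFunctor.comp e q))))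
        by rw [hC]; rfl) ≪≫
      (Stk.restr T₀ _).mapIso ((postB _ (fpSnd (AlgSt.overMap g) (BasedFunctor.comp e q))).mapIso c) ≪≫ eqToIso ?_
    show BasedFunctor.comp (BasedFunctor.comp (AlgSt.ofOverCat P) E)
      (BasedFunctor.comp E₁ (BasedFunctor.comp E₂ (fpSnd (AlgSt.overMap g) (BasedFunctor.comp e q)))) = _
    rw [hE₂s]
    show BasedFunctor.comp (BasedFunctor.comp (AlgSt.ofOverCat P) E) (BasedFunctor.comp E₁ (fpSnd _ _)) = _
    rw [show BasedFunctor.comp E₁ (fpSnd (AlgSt.overMap g) (AlgSt.overMap k)) =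
      BasedFunctor.comp (fpSnd _ _) (AlgSt.toOverCat W) from fpMap_snd _ _ _ _ _]
    show BasedFunctor.comp (AlgSt.ofOverCat P)
      (BasedFunctor.comp (BasedFunctor.comp E (fpSnd _ _)) (AlgSt.toOverCat W)) = _
    rw [hE₀]
    rfl

end Groth.Agent.Stk19b.UCDvr
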